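import Cfsg.Agent.Lib.Helper5.D4O8.Mat
import Cfsg.Agent.H9.OrthC
import Cfsg.Agent.Lib.Helper5.Orth.PlusMinusForm

/-!
# The root elements of type `D₄` as Siegel transformations of the hyperbolic form (helper5)
-/

set_option autoImplicit false

namespace Cfsg.Agent.Lib.Helper5.D4O8

open Cfsg.Lie Matrix Cfsg.Agent.H9.Orth Cfsg.Agent.Lib.Helper5.OrthPM

variable (F : Type*) [Field F]

/-- the hyperbolic quadratic form of dimension eight -/
abbrev Q8 : (I8 → F) → F := Cfsg.quadFormPlus 4 F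

theorem hQ8 : Cfsg.Geo.IsNondegenerateQuadraticForm (Q8 F) := quadFormPlus_nondeg 4

/-- the basis vectors -/
def eb (k : I8) : I8 → F := Pi.single k 1

theorem eb_apply (k l : I8) : eb F k l = if l = k then 1 else 0 := by
  unfold eb
  rw [Pi.single_apply]

theorem eb_same (k : I8) : eb F k k = 1 := by rw [eb_apply, if_pos rfl]

theorem eb_ne (k l : I8) (h : l ≠ k) : eb F k l = 0 := by rw [eb_apply, if_neg h]

theorem swap_ne (a : I8) : a.swap ≠ a := by
  rcases a with a | a <;> simp

theorem swap_swap' (a : I8) : a.swap.swap = a := Sum.swap_swap a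

theorem swap_inj {a b : I8} (h : a.swap = b.swap) : a = b := by
  have := congrArg Sum.swap h
  rwa [Sum.swap_swap, Sum.swap_swap] at this

/-- pairing with a basis vector -/
theorem pol_eb_right (x : I8 → F) (c : I8) : pol (Q8 F) x (eb F c) = x c.swap := by
  rw [pol, polar_quadFormPlus]
  rcases c with j | j
  · simp [eb, Pi.single_apply, Finset.sum_ite_eq']
  · simp [eb, Pi.single_apply, Finset.sum_ite_eq']

theorem pol_eb_left (c : I8) (x : I8 → F) : pol (Q8 F) (eb F c) x = x c.swap := by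
  rw [pol_comm, pol_eb_right]

theorem Q_eb (c : I8) : Q8 F (eb F c) = 0 := by
  unfold Q8 Cfsg.quadFormPlus
  apply Finset.sum_eq_zero
  intro i _
  rcases c with j | j
  · rw [eb_ne F (Sum.inl j) (Sum.inr i) (by simp), mul_zero]
  · rw [eb_ne F (Sum.inr j) (Sum.inl i) (by simp), zero_mul]

theorem pol_eb_eb (a c : I8) : pol (Q8 F) (eb F a) (eb F c) = if c.swap = a then 1 else 0 := by
  rw [pol_eb_right, eb_apply]

theorem Q_pair (a : I8) (α β : F) : Q8 F (α • eb F a + β • eb F a.swap) = α * β := by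
  rw [Q_add (Q8 F), (hQ8 F).smul, (hQ8 F).smul, Q_eb, Q_eb, pol_smul_left (hQ8 F),
    pol_smul_right (hQ8 F), pol_eb_eb, if_pos (swap_swap' a)]
  ring

/-- the root element as a Siegel transformation -/
noncomputable def rt (a c : I8) (t : F) : GL I8 F := sg (hQ8 F) (eb F a) (t • eb F c)

theorem pol_rt (a c : I8) (hc : c ≠ a.swap) (t : F) :
    pol (Q8 F) (eb F a) (t • eb F c) = 0 := by
  rw [pol_smul_right (hQ8 F), pol_eb_eb, if_neg, mul_zero]
  intro h
  apply hc
  rw [← h, swap_swap']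

theorem act_rt (a c : I8) (hc : c ≠ a.swap) (t : F) (x : I8 → F) :
    act (rt F a c t) x = x + (t * x c.swap) • eb F a - (t * x a.swap) • eb F c := by
  unfold rt
  rw [act_sg (hQ8 F) _ _ (Q_eb F a) (pol_rt F a c hc t), pol_smul_right (hQ8 F), pol_eb_right,
    pol_eb_right, (hQ8 F).smul, Q_eb, mul_zero, zero_mul, sub_zero, smul_smul,
    mul_comm (x a.swap) t]

theorem rt_mem (a c : I8) (t : F) : rt F a c t ∈ Cfsg.isometryGroup F (Q8 F) :=
  sg_mem (hQ8 F) _ _

theorem rt_symm (a c : I8) (hc : c ≠ a.swap) (t : F) : rt F a c t = rt F c a (-t) := by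
  have hc' : a ≠ c.swap := by
    intro h
    apply hc
    rw [h, swap_swap']
  apply gl_ext
  intro x
  rw [act_rt F a c hc, act_rt F c a hc']
  simp only [neg_mul, neg_smul]
  abel

/-- the explicit form of the root vector -/
theorem AF_eq (r : ℕ) (hr : r < 24) :
    AF F r = ((rootC r : ℤ) : F) •
      (Matrix.single (rootA r) (rootB r) (1 : F) -
        Matrix.single (rootB r).swap (rootA r).swap (1 : F)) := by
  obtain ⟨h1, h2, -⟩ := root_spec r hr
  ext i j
  rw [AF_apply, Matrix.smul_apply, Matrix.sub_apply, Matrix.single_apply, Matrix.single_apply,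
    smul_eq_mul]
  unfold Ae
  by_cases hA : i = rootA r ∧ j = rootB r
  · have hA' : rootA r = i ∧ rootB r = j := ⟨hA.1.symm, hA.2.symm⟩
    have hn : ¬ ((rootB r).swap = i ∧ (rootA r).swap = j) := by
      rintro ⟨h3, -⟩
      apply h2
      rw [← hA.1, ← h3]
    simp only [if_pos hA, if_pos hA', if_neg hn]
    ring
  · have hA' : ¬ (rootA r = i ∧ rootB r = j) := fun h => hA ⟨h.1.symm, h.2.symm⟩
    by_cases hB : i = (rootB r).swap ∧ j = (rootA r).swap
    · have hB' : (rootB r).swap = i ∧ (rootA r).swap = j := ⟨hB.1.symm, hB.2.symm⟩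
      simp only [if_neg hA, if_pos hB, if_neg hA', if_pos hB']
      push_cast
      ring
    · have hB' : ¬ ((rootB r).swap = i ∧ (rootA r).swap = j) :=
        fun h => hB ⟨h.1.symm, h.2.symm⟩
      simp only [if_neg hA, if_neg hB, if_neg hA', if_neg hB']
      push_cast
      ring

/-- the table root element is a Siegel root element -/
theorem X8_eq_rt (r : ℕ) (hr : r < 24) (t : F) :
    X8 F r t = rt F (rootA r) (rootB r).swap (((rootC r : ℤ) : F) * t) := by
  obtain ⟨h1, h2, -⟩ := root_spec r hr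
  have hc : (rootB r).swap ≠ (rootA r).swap := fun h => h1 (swap_inj h).symm
  apply gl_ext
  intro x
  rw [act_rt F _ _ hc, swap_swap']
  show (X8M F r t) *ᵥ x = _
  unfold X8M
  rw [Matrix.add_mulVec, Matrix.one_mulVec, Matrix.smul_mulVec, AF_eq F r hr, Matrix.smul_mulVec,
    Matrix.sub_mulVec, Matrix.single_mulVec_eq, Matrix.single_mulVec_eq, one_mul, one_mul]
  unfold eb
  module

/-- the group generated by the root elements -/
def E8 : Subgroup (GL I8 F) := Subgroup.closure {g | ∃ r, r < 24 ∧ ∃ t : F, g = X8 F r t}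

theorem X8_mem_E8 (r : ℕ) (t : F) : X8 F r t ∈ E8 F := by
  by_cases hr : r < 24
  · exact Subgroup.subset_closure ⟨r, hr, t, rfl⟩
  · rw [X8_out F r hr]
    exact (E8 F).one_mem

theorem rootC_sq (r : ℕ) (hr : r < 24) : ((rootC r : ℤ) : F) * ((rootC r : ℤ) : F) = 1 := by
  obtain ⟨-, -, h⟩ := root_spec r hr
  rcases h with h | h <;> rw [h] <;> push_cast <;> ring

theorem rt_mem_E8 (a c : I8) (h1 : c ≠ a) (h2 : c ≠ a.swap) (t : F) : rt F a c t ∈ E8 F := by
  have h3 : a ≠ c.swap := by
    intro h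
    apply h2
    rw [h, swap_swap']
  have h4 : a ≠ c.swap.swap := by
    rw [swap_swap']
    exact fun h => h1 h.symm
  obtain ⟨r, hr, h | h⟩ := cover_spec a c.swap h3 h4
  · have e := X8_eq_rt F r hr (((rootC r : ℤ) : F) * t)
    rw [h.1, h.2, swap_swap', ← mul_assoc, rootC_sq F r hr, one_mul] at e
    rw [← e]
    exact X8_mem_E8 F r _
  · have e := X8_eq_rt F r hr (((rootC r : ℤ) : F) * (-t))
    rw [h.1, h.2, swap_swap', swap_swap', ← mul_assoc, rootC_sq F r hr, one_mul] at e
    rw [rt_symm F a c h2, ← e]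
    exact X8_mem_E8 F r _

theorem E8_le : E8 F ≤ Cfsg.isometryGroup F (Q8 F) := by
  unfold E8
  rw [Subgroup.closure_le]
  rintro g ⟨r, hr, t, rfl⟩
  rw [X8_eq_rt F r hr]
  exact rt_mem F _ _ _

/-- Siegel transformations centred at a basis vector lie in the group of the root elements -/
theorem sg_sum_mem (a : I8) (S : Finset I8) (hS : ∀ c ∈ S, c ≠ a ∧ c ≠ a.swap) (f : I8 → F) :
    pol (Q8 F) (eb F a) (∑ c ∈ S, f c • eb F c) = 0 ∧
      sg (hQ8 F) (eb F a) (∑ c ∈ S, f c • eb F c) ∈ E8 F := by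
  induction S using Finset.induction_on with
  | empty =>
    rw [Finset.sum_empty, pol_zero_right (hQ8 F), sg_zero]
    exact ⟨rfl, (E8 F).one_mem⟩
  | insert c S hc ih =>
    rw [Finset.sum_insert hc]
    obtain ⟨h1, h2⟩ := ih (fun d hd => hS d (Finset.mem_insert_of_mem hd))
    obtain ⟨hc1, hc2⟩ := hS c (Finset.mem_insert_self c S)
    have h3 : pol (Q8 F) (eb F a) (f c • eb F c) = 0 := pol_rt F a c hc2 (f c)
    constructor
    · rw [pol_add_right (hQ8 F), h3, h1, add_zero]
    · rw [← sg_mul (hQ8 F) _ _ _ h3 h1]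
      exact (E8 F).mul_mem (rt_mem_E8 F a c hc1 hc2 (f c)) h2

theorem sg_eb_mem (a : I8) (w : I8 → F) (h1 : w a = 0) (h2 : w a.swap = 0) :
    sg (hQ8 F) (eb F a) w ∈ E8 F := by
  classical
  have e : w = ∑ c ∈ Finset.univ.filter (fun c : I8 => c ≠ a ∧ c ≠ a.swap), w c • eb F c := by
    funext k
    rw [Finset.sum_apply]
    simp only [Pi.smul_apply, eb_apply, smul_eq_mul, mul_ite, mul_one, mul_zero]
    rw [Finset.sum_ite_eq]
    simp only [Finset.mem_filter, Finset.mem_univ, true_and]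
    by_cases hk : k ≠ a ∧ k ≠ a.swap
    · rw [if_pos hk]
    · rw [if_neg hk]
      by_cases hka : k = a
      · rw [hka, h1]
      · have : k = a.swap := by
          by_contra h
          exact hk ⟨hka, h⟩
        rw [this, h2]
  rw [e]
  exact (sg_sum_mem F a _ (fun c hc => (Finset.mem_filter.1 hc).2) w).2

end Cfsg.Agent.Lib.Helper5.D4O8
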