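import Cfsg.Agent.Lib.Helper5.D4O8.Tor2
import Cfsg.Agent.Lib.Helper5.St.Main
import Cfsg.Agent.Lib.Helper5.Chev.SimpleChev

/-!
# `D₄(F) ≅ PΩ⁺₈(F)` over every field (helper5)

The group presented by the relations (R1), (R2) of type `D₄` maps onto `Ω⁺₈(F)` (generated by the root
elements); both `D₄(F)` and `PΩ⁺₈(F)` are its quotient by the centre.
-/

set_option autoImplicit false

namespace Cfsg.Agent.Lib.Helper5.D4O8

open Cfsg.Lie Cfsg.Agent.Lib.Helper5.St Cfsg.Agent.Lib.Helper5.Chev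

variable (F : Type*) [Field F]

theorem hD4 : chevD4 ∈ [chevG2, chevB2, chevD4, chevF4, chevE6, chevE7, chevE8] := by simp

/-- the root elements in the isometry group -/
def XO (r : ℕ) (t : F) : ↥(Cfsg.isometryGroup F (Q8 F)) :=
  ⟨X8 F r t, E8_le F (X8_mem_E8 F r t)⟩

theorem XO_val (r : ℕ) (t : F) : ((XO F r t : ↥(Cfsg.isometryGroup F (Q8 F))) : GL I8 F) = X8 F r t :=
  rfl

/-- the images of the generators -/
def genO : Fin chevD4.nroots × F → ↥(Cfsg.isometryGroup F (Q8 F)) := fun p => XO F p.1.val p.2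

theorem lift_stX8 (r : ℕ) (t : F) :
    FreeGroup.lift (genO F) (chevD4.stX r t) = XO F r t := by
  unfold ChevalleyDatum.stX
  by_cases h : r < chevD4.nroots
  · rw [dif_pos h, FreeGroup.lift_apply_of]
    rfl
  · rw [dif_neg h, map_one]
    apply Subtype.ext
    rw [XO_val, X8_out F r h]
    rfl

theorem lift_stWord8 (w : List (ℕ × F)) :
    FreeGroup.lift (genO F) (chevD4.stWord w) = wordG (XO F) w := by
  unfold ChevalleyDatum.stWord wordG
  rw [map_list_prod, List.map_map]
  congr 1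
  apply List.map_congr_left
  intro p _
  exact lift_stX8 F p.1 p.2

theorem wordG_XO_val (w : List (ℕ × F)) :
    ((wordG (XO F) w : ↥(Cfsg.isometryGroup F (Q8 F))) : GL I8 F) = wordG (X8 F) w := by
  induction w with
  | nil => rfl
  | cons a w ih =>
    rw [wordG_cons, wordG_cons, Subgroup.coe_mul, ih]
    rfl

theorem lift_rels8 : ∀ g ∈ chevD4.steinbergRelsAB F, FreeGroup.lift (genO F) g = 1 := by
  rw [steinbergRelsAB_eq]
  rintro g (⟨r, t₁, t₂, hr, rfl⟩ | ⟨r, s, t, u, hr, hs, h1, h2, rfl⟩)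
  · rw [map_mul, map_mul, map_inv, lift_stX8, lift_stX8, lift_stX8, mul_inv_eq_one]
    apply Subtype.ext
    rw [Subgroup.coe_mul]
    exact X8_mul F r t₁ t₂
  · simp only [map_mul, map_inv, lift_stX8, lift_stWord8]
    rw [mul_inv_eq_one]
    apply Subtype.ext
    rw [wordG_XO_val]
    simp only [Subgroup.coe_mul, Subgroup.coe_inv, XO_val]
    exact X8_comm F r s hr hs h1 h2 t u

/-- the homomorphism from the presented group to the isometry group -/
noncomputable def phi : chevD4.SteinbergCover F →* ↥(Cfsg.isometryGroup F (Q8 F)) :=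
  PresentedGroup.toGroup (lift_rels8 F)

theorem phi_of (p : Fin chevD4.nroots × F) :
    phi F (PresentedGroup.of p) = XO F p.1.val p.2 :=
  PresentedGroup.toGroup.of (lift_rels8 F)

/-- the image is `Ω⁺₈(F)` -/
theorem phi_range : (phi F).range = Cfsg.Omega F (Q8 F) := by
  rw [omega_eq]
  apply Subgroup.map_injective (Cfsg.isometryGroup F (Q8 F)).subtype_injective
  rw [Subgroup.subgroupOf_map_subtype, inf_eq_left.2 (E8_le F), MonoidHom.range_eq_map,
    ← PresentedGroup.closure_range_of (chevD4.steinbergRelsAB F), MonoidHom.map_closure,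
    MonoidHom.map_closure]
  unfold E8
  congr 1
  ext g
  constructor
  · rintro ⟨y, ⟨x, ⟨p, rfl⟩, rfl⟩, rfl⟩
    rw [phi_of]
    exact ⟨p.1.val, p.1.2, p.2, rfl⟩
  · rintro ⟨r, hr, t, rfl⟩
    refine ⟨XO F r t, ⟨PresentedGroup.of (⟨r, hr⟩, t), ⟨_, rfl⟩, ?_⟩, rfl⟩
    rw [phi_of]

/-- two root elements which do not commute -/
theorem X8_not_comm : X8 F 0 1 * X8 F 14 1 ≠ X8 F 14 1 * X8 F 0 1 := by
  intro h
  have h1 := X8_comm F 0 14 (by norm_num) (by norm_num) (by decide) (by decide) 1 1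
  have hct : chevD4.commTerms 0 14 = [(1, 1, 1, 1)] := by decide
  have hL : (X8 F 14 1)⁻¹ * (X8 F 0 1)⁻¹ * X8 F 14 1 * X8 F 0 1 = 1 := by
    rw [mul_assoc, ← h]
    group
  rw [hL] at h1
  unfold ChevalleyDatum.commWord at h1
  rw [hct] at h1
  simp only [List.map_cons, List.map_nil] at h1
  rw [wordG_cons, wordG_nil, mul_one] at h1
  have h2 := congrArg (fun g : GL I8 F => g.val (Sum.inr 2) (Sum.inl 0)) h1
  simp only [X8_val, X8M, Units.val_one, Matrix.add_apply, Matrix.smul_apply, AF_apply] at h2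
  have e : Ae 1 (Sum.inr 2) (Sum.inl 0) = 1 := by decide
  rw [e, Matrix.one_apply_ne (by simp)] at h2
  norm_num at h2

end Cfsg.Agent.Lib.Helper5.D4O8
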