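import Cfsg.Agent.Lib.Helper5.D4O8.Main

/-!
# `D₄(F) ≅ PΩ⁺₈(F)` over every field: the isomorphism (helper5)
-/

set_option autoImplicit false

namespace Cfsg.Agent.Lib.Helper5.D4O8

open Cfsg.Lie Cfsg.Agent.Lib.Helper5.St Cfsg.Agent.Lib.Helper5.Chev

variable (F : Type*) [Field F]

/-- the homomorphism onto `Ω⁺₈(F)` -/
noncomputable def phiO : chevD4.SteinbergCover F →* ↥(Cfsg.Omega F (Q8 F)) :=
  (phi F).codRestrict (Cfsg.Omega F (Q8 F)) (fun x => by
    rw [← phi_range]
    exact ⟨x, rfl⟩)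

theorem phiO_val (x : chevD4.SteinbergCover F) :
    ((phiO F x : ↥(Cfsg.Omega F (Q8 F))) : ↥(Cfsg.isometryGroup F (Q8 F))) = phi F x := rfl

theorem phiO_surjective : Function.Surjective (phiO F) := by
  rintro ⟨y, hy⟩
  rw [← phi_range] at hy
  obtain ⟨x, rfl⟩ := hy
  exact ⟨x, rfl⟩

theorem omega_not_comm : ∃ a b : ↥(Cfsg.Omega F (Q8 F)), a * b ≠ b * a := by
  refine ⟨phiO F (PresentedGroup.of (⟨0, by decide⟩, 1)),
    phiO F (PresentedGroup.of (⟨14, by decide⟩, 1)), ?_⟩
  intro h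
  apply X8_not_comm F
  have h1 := congrArg (fun g : ↥(Cfsg.Omega F (Q8 F)) =>
    (((g : ↥(Cfsg.isometryGroup F (Q8 F))) : GL I8 F))) h
  simp only [Subgroup.coe_mul, phiO_val, phi_of] at h1
  exact h1

/-- the homomorphism onto `PΩ⁺₈(F)` -/
noncomputable def psi : chevD4.SteinbergCover F →* Cfsg.POmega F (Q8 F) :=
  (QuotientGroup.mk' (Subgroup.center ↥(Cfsg.Omega F (Q8 F)))).comp (phiO F)

theorem psi_surjective : Function.Surjective (psi F) :=
  (QuotientGroup.mk'_surjective _).comp (phiO_surjective F)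

theorem mem_ker_psi (x : chevD4.SteinbergCover F) :
    x ∈ (psi F).ker ↔ phiO F x ∈ Subgroup.center ↥(Cfsg.Omega F (Q8 F)) := by
  rw [MonoidHom.mem_ker]
  unfold psi
  rw [MonoidHom.comp_apply, QuotientGroup.mk'_apply, QuotientGroup.eq_one_iff]

theorem phiO_center (z : chevD4.SteinbergCover F)
    (hz : z ∈ Subgroup.center (chevD4.SteinbergCover F)) :
    phiO F z ∈ Subgroup.center ↥(Cfsg.Omega F (Q8 F)) := by
  rw [Subgroup.mem_center_iff]
  intro y
  obtain ⟨x, rfl⟩ := phiO_surjective F y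
  rw [← map_mul, ← map_mul, Subgroup.mem_center_iff.1 hz x]

theorem ker_psi : (psi F).ker = Subgroup.center (chevD4.SteinbergCover F) := by
  obtain ⟨R, hR⟩ : ∃ R : RData F chevD4 (chevD4.SteinbergCover F), R = coverRData (K := F) hD4 :=
    ⟨_, rfl⟩
  have hθs := R.thetaG_surjective
  have hθk := R.thetaG_ker_eq_center
  obtain ⟨hsimple, -⟩ := simple_all (F := F) chevD4 hD4 (by
    rintro (h | h)
    · exact absurd (congrArg ChevalleyDatum.rank h) (by decide)
    · exact absurd (congrArg ChevalleyDatum.rank h) (by decide))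
  apply le_antisymm
  · have hN : ((psi F).ker).Normal := inferInstance
    have hM : ((psi F).ker.map R.thetaG).Normal := Subgroup.Normal.map hN _ hθs
    rcases hM.eq_bot_or_eq_top with h | h
    · rw [← hθk]
      exact (Subgroup.map_eq_bot_iff _).1 h
    · exfalso
      obtain ⟨a, b, hab⟩ := omega_not_comm F
      have hall : ∀ x, phiO F x ∈ Subgroup.center ↥(Cfsg.Omega F (Q8 F)) := by
        intro x
        have hx : R.thetaG x ∈ (psi F).ker.map R.thetaG := by
          rw [h]
          trivial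
        obtain ⟨n, hn, hnx⟩ := hx
        have hz : n⁻¹ * x ∈ Subgroup.center (chevD4.SteinbergCover F) := by
          rw [← hθk, MonoidHom.mem_ker, map_mul, map_inv, hnx, inv_mul_cancel]
        have e : x = n * (n⁻¹ * x) := by group
        rw [e, map_mul]
        exact Subgroup.mul_mem _ ((mem_ker_psi F n).1 hn) (phiO_center F _ hz)
      obtain ⟨x, rfl⟩ := phiO_surjective F a
      exact hab ((Subgroup.mem_center_iff.1 (hall x) b).symm)
  · intro z hz
    rw [mem_ker_psi]
    exact phiO_center F z hz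

/-- **`D₄(F) ≅ PΩ⁺₈(F)`** for every field `F` -/
theorem main : Nonempty (↥(chevD4.group F) ≃* Cfsg.POmega F (Cfsg.quadFormPlus 4 F)) := by
  obtain ⟨R, hR⟩ : ∃ R : RData F chevD4 (chevD4.SteinbergCover F), R = coverRData (K := F) hD4 :=
    ⟨_, rfl⟩
  have e1 := QuotientGroup.quotientKerEquivOfSurjective R.thetaG R.thetaG_surjective
  have e2 := QuotientGroup.quotientKerEquivOfSurjective (psi F) (psi_surjective F)
  have hk : R.thetaG.ker = (psi F).ker := by rw [R.thetaG_ker_eq_center, ker_psi]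
  exact ⟨e1.symm.trans ((QuotientGroup.quotientMulEquivOfEq hk).trans e2)⟩

end Cfsg.Agent.Lib.Helper5.D4O8
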