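import Cfsg.Agent.Lib.Helper5.D4O8.Tab2
import Cfsg.Agent.Lib.Helper5.St.RData

/-!
# The root elements of type `D₄` in the natural module of dimension `8` (helper5)

From the Boolean checks of `Tab.lean`: the matrices `1 + t • e_r` satisfy the relations (R1), (R2) of
Steinberg with the structure constants of `chevD4`, over every field.
-/

set_option autoImplicit false

namespace Cfsg.Agent.Lib.Helper5.D4O8

open Cfsg.Lie Matrix Cfsg.Agent.Lib.Helper5.St

/-- extraction from a double Boolean check -/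
theorem all_spec (P : I8 → I8 → Prop) [∀ i j, Decidable (P i j)]
    (h : (idxL.all fun i => idxL.all fun j => decide (P i j)) = true) : ∀ i j, P i j := by
  intro i j
  rw [List.all_eq_true] at h
  have h1 := h i (mem_idxL i)
  rw [List.all_eq_true] at h1
  have h2 := h1 j (mem_idxL j)
  rwa [decide_eq_true_eq] at h2

theorem mulE_eq (M N : I8 → I8 → ℤ) (i j : I8) : mulE M N i j = ∑ k : I8, M i k * N k j := by
  unfold mulE idxL
  rw [Fintype.sum_sum_type, Fin.sum_univ_four, Fin.sum_univ_four]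
  simp only [List.map_cons, List.map_nil, List.sum_cons, List.sum_nil]
  ring

/-- the integer root vector -/
def AZ (r : ℕ) : Matrix I8 I8 ℤ := Matrix.of (Ae r)

theorem AZ_apply (r : ℕ) (i j : I8) : AZ r i j = Ae r i j := rfl

theorem AZ_mul_apply (r s : ℕ) (i j : I8) : (AZ r * AZ s) i j = mulE (Ae r) (Ae s) i j := by
  rw [mulE_eq, Matrix.mul_apply]
  rfl

theorem AZ_mul3_apply (r s : ℕ) (i j : I8) :
    (AZ r * AZ s * AZ r) i j = mulE (mulE (Ae r) (Ae s)) (Ae r) i j := by
  rw [mulE_eq, Matrix.mul_apply]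
  apply Finset.sum_congr rfl
  intro k _
  rw [AZ_mul_apply]
  rfl

theorem chkRow_of (r : ℕ) (hr : r < 24) : chkRow r = true := by
  have h := chkRow_all
  rw [List.all_eq_true] at h
  exact h r (List.mem_range.2 hr)

theorem AZ_out (r : ℕ) (hr : ¬ r < 24) : AZ r = 0 := by
  ext i j
  exact Ae_out r hr i j

theorem AZ_sq (r : ℕ) : AZ r * AZ r = 0 := by
  by_cases hr : r < 24
  · have h := chkRow_of r hr
    unfold chkRow at h
    rw [Bool.and_eq_true] at h
    have h0 := h.1
    unfold chkSq at h0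
    have h1 := all_spec (fun i j => mulE (Ae r) (Ae r) i j = 0) h0
    ext i j
    rw [AZ_mul_apply, h1]
    rfl
  · rw [AZ_out r hr, Matrix.mul_zero]

theorem chkPair_spec (r s : ℕ) (h1 : s ≠ r) (h2 : s ≠ chevD4.neg r) (h : chkPair r s = true) :
    (∀ i j, mulE (mulE (Ae r) (Ae s)) (Ae r) i j = 0) ∧
    ((chevD4.commTerms r s = [] ∧
        ∀ i j, mulE (Ae r) (Ae s) i j - mulE (Ae s) (Ae r) i j = 0) ∨
     (∃ k n, chevD4.commTerms r s = [(k, n, 1, 1)] ∧ k < 24 ∧
        ∀ i j, mulE (Ae r) (Ae s) i j - mulE (Ae s) (Ae r) i j = n * Ae k i j)) := by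
  unfold chkPair at h
  rw [if_neg h1, if_neg h2, Bool.and_eq_true] at h
  obtain ⟨ha, hb⟩ := h
  refine ⟨all_spec (fun i j => mulE (mulE (Ae r) (Ae s)) (Ae r) i j = 0) ha, ?_⟩
  split at hb
  · rename_i heq
    left
    exact ⟨heq, all_spec (fun i j => mulE (Ae r) (Ae s) i j - mulE (Ae s) (Ae r) i j = 0) hb⟩
  · rename_i k n heq
    right
    rw [Bool.and_eq_true, decide_eq_true_eq] at hb
    exact ⟨k, n, heq, hb.1,
      all_spec (fun i j => mulE (Ae r) (Ae s) i j - mulE (Ae s) (Ae r) i j = n * Ae k i j) hb.2⟩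
  · exact absurd hb (by decide)

theorem AZ_pair (r s : ℕ) (hr : r < 24) (hs : s < 24) (h1 : s ≠ r) (h2 : s ≠ chevD4.neg r) :
    AZ r * AZ s * AZ r = 0 ∧
    ((chevD4.commTerms r s = [] ∧ AZ r * AZ s - AZ s * AZ r = 0) ∨
     (∃ k n, chevD4.commTerms r s = [(k, n, 1, 1)] ∧ k < 24 ∧
        AZ r * AZ s - AZ s * AZ r = n • AZ k)) := by
  have h := chkRow_of r hr
  unfold chkRow at h
  rw [Bool.and_eq_true, List.all_eq_true] at h
  obtain ⟨h3, h4⟩ := chkPair_spec r s h1 h2 (h.2 s (List.mem_range.2 hs))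
  constructor
  · ext i j
    rw [AZ_mul3_apply, h3]
    rfl
  · rcases h4 with ⟨h5, h6⟩ | ⟨k, n, h5, h6, h7⟩
    · left
      refine ⟨h5, ?_⟩
      ext i j
      rw [Matrix.sub_apply, AZ_mul_apply, AZ_mul_apply, h6]
      rfl
    · right
      refine ⟨k, n, h5, h6, ?_⟩
      ext i j
      rw [Matrix.sub_apply, AZ_mul_apply, AZ_mul_apply, h7, Matrix.smul_apply, smul_eq_mul]
      rfl

section field

variable (F : Type*) [Field F]

/-- the root vector over the field `F` -/
def AF (r : ℕ) : Matrix I8 I8 F := (Int.castRingHom F).mapMatrix (AZ r)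

theorem AF_apply (r : ℕ) (i j : I8) : AF F r i j = ((Ae r i j : ℤ) : F) := rfl

theorem AF_out (r : ℕ) (hr : ¬ r < 24) : AF F r = 0 := by
  unfold AF
  rw [AZ_out r hr, map_zero]

theorem AF_sq (r : ℕ) : AF F r * AF F r = 0 := by
  unfold AF
  rw [← map_mul, AZ_sq, map_zero]

theorem AF_pair (r s : ℕ) (hr : r < 24) (hs : s < 24) (h1 : s ≠ r) (h2 : s ≠ chevD4.neg r) :
    AF F r * AF F s * AF F r = 0 ∧
    ((chevD4.commTerms r s = [] ∧ AF F r * AF F s - AF F s * AF F r = 0) ∨
     (∃ k n, chevD4.commTerms r s = [(k, n, 1, 1)] ∧ k < 24 ∧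
        AF F r * AF F s - AF F s * AF F r = (n : F) • AF F k)) := by
  obtain ⟨h3, h4⟩ := AZ_pair r s hr hs h1 h2
  constructor
  · unfold AF
    rw [← map_mul, ← map_mul, h3, map_zero]
  · rcases h4 with ⟨h5, h6⟩ | ⟨k, n, h5, h6, h7⟩
    · left
      refine ⟨h5, ?_⟩
      unfold AF
      rw [← map_mul, ← map_mul, ← map_sub, h6, map_zero]
    · right
      refine ⟨k, n, h5, h6, ?_⟩
      unfold AF
      rw [← map_mul, ← map_mul, ← map_sub, h7, map_zsmul]
      exact (Int.cast_smul_eq_zsmul F n _).symm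

/-- the matrix of the root element -/
def X8M (r : ℕ) (t : F) : Matrix I8 I8 F := 1 + t • AF F r

theorem X8M_mul (r : ℕ) (t u : F) : X8M F r t * X8M F r u = X8M F r (t + u) := by
  unfold X8M
  rw [Matrix.add_mul, Matrix.mul_add, Matrix.mul_add, Matrix.one_mul, Matrix.mul_one,
    Matrix.one_mul, Matrix.smul_mul, Matrix.mul_smul, AF_sq, smul_zero, smul_zero, add_zero,
    add_smul]
  abel

theorem X8M_zero (r : ℕ) : X8M F r 0 = 1 := by
  unfold X8M
  rw [zero_smul, add_zero]

/-- the root element -/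
def X8 (r : ℕ) (t : F) : GL I8 F :=
  ⟨X8M F r t, X8M F r (-t), by rw [X8M_mul, add_neg_cancel, X8M_zero],
    by rw [X8M_mul, neg_add_cancel, X8M_zero]⟩

theorem X8_val (r : ℕ) (t : F) : (X8 F r t).val = X8M F r t := rfl

theorem X8_inv (r : ℕ) (t : F) : (X8 F r t)⁻¹ = X8 F r (-t) := by
  apply Units.ext
  rfl

theorem X8_mul (r : ℕ) (t u : F) : X8 F r t * X8 F r u = X8 F r (t + u) := by
  apply Units.ext
  rw [Units.val_mul, X8_val, X8_val, X8_val, X8M_mul]

theorem X8_out (r : ℕ) (hr : ¬ r < 24) (t : F) : X8 F r t = 1 := by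
  apply Units.ext
  rw [X8_val, Units.val_one]
  unfold X8M
  rw [AF_out F r hr, smul_zero, add_zero]

theorem ring_comm_identity {R : Type*} [Ring R] (A B : R) (hA : A * A = 0) (hB : B * B = 0)
    (hABA : A * B * A = 0) (hBAB : B * A * B = 0) :
    (1 - B) * (1 - A) * (1 + B) * (1 + A) = 1 - (A * B - B * A) := by
  have e1 : (1 - A) * (1 + B) * (1 + A) = 1 + B - A * B + B * A - A * A - A * B * A := by
    noncomm_ring
  have e2 : (1 - B) * (1 + B - A * B + B * A) =
      1 - A * B + B * A - B * B + B * A * B - B * B * A := by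
    noncomm_ring
  calc (1 - B) * (1 - A) * (1 + B) * (1 + A) = (1 - B) * ((1 - A) * (1 + B) * (1 + A)) := by
        noncomm_ring
    _ = (1 - B) * (1 + B - A * B + B * A) := by rw [e1, hA, hABA, sub_zero, sub_zero]
    _ = 1 - (A * B - B * A) := by
        rw [e2, hB, hBAB, zero_mul]
        noncomm_ring

theorem smul3 (t u : F) (A B : Matrix I8 I8 F) :
    (t • A) * (u • B) * (t • A) = (t * u * t) • (A * B * A) := by
  simp only [Matrix.smul_mul, Matrix.mul_smul, smul_smul]
  congr 1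
  ring

/-- the relation (R2) -/
theorem X8_comm (r s : ℕ) (hr : r < 24) (hs : s < 24) (h1 : s ≠ r) (h2 : s ≠ chevD4.neg r)
    (t u : F) :
    (X8 F s u)⁻¹ * (X8 F r t)⁻¹ * X8 F s u * X8 F r t =
      wordG (X8 F) (chevD4.commWord F r s t u) := by
  obtain ⟨h3, h4⟩ := AF_pair F r s hr hs h1 h2
  have h1' : r ≠ s := fun h => h1 h.symm
  have h2' : r ≠ chevD4.neg s := by
    intro h
    apply h2
    exact neg_symm s r hs hr h
  obtain ⟨h3', -⟩ := AF_pair F s r hs hr h1' h2'
  have key : (X8 F s u)⁻¹.val * (X8 F r t)⁻¹.val * (X8 F s u).val * (X8 F r t).val =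
      1 - (t * u) • (AF F r * AF F s - AF F s * AF F r) := by
    rw [X8_inv, X8_inv, X8_val, X8_val, X8_val, X8_val]
    unfold X8M
    have e := ring_comm_identity (t • AF F r) (u • AF F s)
      (by rw [Matrix.smul_mul, Matrix.mul_smul, AF_sq, smul_zero, smul_zero])
      (by rw [Matrix.smul_mul, Matrix.mul_smul, AF_sq, smul_zero, smul_zero])
      (by rw [smul3, h3, smul_zero])
      (by rw [smul3, h3', smul_zero])
    rw [neg_smul, neg_smul, ← sub_eq_add_neg, ← sub_eq_add_neg, e]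
    congr 1
    rw [Matrix.smul_mul, Matrix.mul_smul, Matrix.smul_mul, Matrix.mul_smul, smul_smul, smul_smul,
      smul_sub, mul_comm u t]
  apply Units.ext
  rw [Units.val_mul, Units.val_mul, Units.val_mul, key]
  unfold ChevalleyDatum.commWord
  rcases h4 with ⟨h5, h6⟩ | ⟨k, n, h5, h6, h7⟩
  · rw [h5, h6, smul_zero, sub_zero]
    rfl
  · rw [h5, h7]
    simp only [List.map_cons, List.map_nil]
    rw [wordG_cons, wordG_nil, mul_one, X8_val]
    unfold X8M
    rw [smul_smul, sub_eq_add_neg, ← neg_smul]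
    congr 2
    ring

end field

end Cfsg.Agent.Lib.Helper5.D4O8
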