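import Cfsg.Prelude.Def_ChevD4
import Cfsg.Prelude.Def_ChevStructure
import Mathlib

/-!
# The root vectors of type `D₄` in the natural module of dimension `8` (helper5)

Integer matrices `Ae r` (`r < 24`), two nonzero entries each, with the signs fixed so that they form a
Chevalley basis with the structure constants of the table `chevD4`.
-/

set_option autoImplicit false

namespace Cfsg.Agent.Lib.Helper5.D4O8

open Cfsg.Lie

/-- the index set of the natural module -/
abbrev I8 := Fin 4 ⊕ Fin 4

/-- row, column and sign of the first entry of the root vector `e_r` -/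
def rootTab : List (I8 × I8 × ℤ) :=
  [(.inr 1, .inl 0, 1),
   (.inr 2, .inl 0, 1),
   (.inl 3, .inl 0, 1),
   (.inr 3, .inl 0, 1),
   (.inl 2, .inl 0, -1),
   (.inl 1, .inl 0, 1),
   (.inr 2, .inl 1, -1),
   (.inl 3, .inl 1, -1),
   (.inr 3, .inl 1, -1),
   (.inl 2, .inl 1, 1),
   (.inl 3, .inl 2, 1),
   (.inr 3, .inl 2, 1),
   (.inl 2, .inr 3, 1),
   (.inl 2, .inl 3, 1),
   (.inl 1, .inl 2, 1),
   (.inl 1, .inr 3, -1),
   (.inl 1, .inl 3, -1),
   (.inl 1, .inr 2, -1),
   (.inl 0, .inl 1, 1),
   (.inl 0, .inl 2, -1),
   (.inl 0, .inr 3, 1),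
   (.inl 0, .inl 3, 1),
   (.inl 0, .inr 2, 1),
   (.inl 0, .inr 1, 1)]

/-- the row of the first entry -/
def rootA (r : ℕ) : I8 := (rootTab.getD r (.inl 0, .inl 0, 0)).1

/-- the column of the first entry -/
def rootB (r : ℕ) : I8 := (rootTab.getD r (.inl 0, .inl 0, 0)).2.1

/-- the sign -/
def rootC (r : ℕ) : ℤ := (rootTab.getD r (.inl 0, .inl 0, 0)).2.2

/-- the list of all indices -/
def idxL : List I8 := [.inl 0, .inl 1, .inl 2, .inl 3, .inr 0, .inr 1, .inr 2, .inr 3]

/-- the entries of the root vector `e_r` -/
def Ae (r : ℕ) (i j : I8) : ℤ :=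
  if i = rootA r ∧ j = rootB r then rootC r
  else if i = (rootB r).swap ∧ j = (rootA r).swap then - rootC r else 0

/-- product of two tables -/
def mulE (M N : I8 → I8 → ℤ) (i j : I8) : ℤ := (idxL.map fun k => M i k * N k j).sum

/-- the check of the relations for one pair of roots -/
def chkPair (r s : ℕ) : Bool :=
  if s = r then true
  else if s = chevD4.neg r then true
  else
    (idxL.all fun i => idxL.all fun j =>
      decide (mulE (mulE (Ae r) (Ae s)) (Ae r) i j = 0)) &&
    (match chevD4.commTerms r s with
      | [] => idxL.all fun i => idxL.all fun j =>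
          decide (mulE (Ae r) (Ae s) i j - mulE (Ae s) (Ae r) i j = 0)
      | [(k, n, 1, 1)] => decide (k < 24) && (idxL.all fun i => idxL.all fun j =>
          decide (mulE (Ae r) (Ae s) i j - mulE (Ae s) (Ae r) i j = n * Ae k i j))
      | _ => false)

/-- the check of the square of one root vector -/
def chkSq (r : ℕ) : Bool :=
  idxL.all fun i => idxL.all fun j => decide (mulE (Ae r) (Ae r) i j = 0)

/-- the check for one root against all the others -/
def chkRow (r : ℕ) : Bool := chkSq r && (List.range 24).all fun s => chkPair r s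

set_option maxRecDepth 100000 in
set_option maxHeartbeats 40000000 in
theorem chkRow_all : (List.range 24).all chkRow = true := by decide

end Cfsg.Agent.Lib.Helper5.D4O8
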