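import Cfsg.Agent.Lib.Helper5.D4O8.Tab

/-!
# Further finite checks on the table of root vectors of type `D₄` (helper5)
-/

set_option autoImplicit false

namespace Cfsg.Agent.Lib.Helper5.D4O8

open Cfsg.Lie

theorem nroots_eq : chevD4.nroots = 24 := rfl

theorem mem_idxL (i : I8) : i ∈ idxL := by
  rcases i with i | i <;> fin_cases i <;> simp [idxL]

/-- the shape of the table entries -/
def chkRoot (r : ℕ) : Bool :=
  decide (rootA r ≠ rootB r) && decide (rootA r ≠ (rootB r).swap) &&
    (decide (rootC r = 1) || decide (rootC r = -1))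

theorem chkRoot_all : (List.range 24).all chkRoot = true := by decide

theorem root_spec (r : ℕ) (hr : r < 24) :
    rootA r ≠ rootB r ∧ rootA r ≠ (rootB r).swap ∧ (rootC r = 1 ∨ rootC r = -1) := by
  have h := chkRoot_all
  rw [List.all_eq_true] at h
  have h1 := h r (List.mem_range.2 hr)
  unfold chkRoot at h1
  simp only [Bool.and_eq_true, Bool.or_eq_true, decide_eq_true_eq] at h1
  exact ⟨h1.1.1, h1.1.2, h1.2⟩

/-- the negative of a root, symmetric -/
def chkNeg (r : ℕ) : Bool :=
  (List.range 24).all fun s => decide (s = chevD4.neg r → r = chevD4.neg s)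

theorem chkNeg_all : (List.range 24).all chkNeg = true := by decide

theorem neg_symm (r s : ℕ) (hr : r < 24) (hs : s < 24) (h : s = chevD4.neg r) :
    r = chevD4.neg s := by
  have h0 := chkNeg_all
  rw [List.all_eq_true] at h0
  have h1 := h0 r (List.mem_range.2 hr)
  unfold chkNeg at h1
  rw [List.all_eq_true] at h1
  have h3 := h1 s (List.mem_range.2 hs)
  rw [decide_eq_true_eq] at h3
  exact h3 h

/-- every admissible pair of indices carries a root vector -/
def chkCover (a b : I8) : Bool :=
  decide (a = b) || decide (a = b.swap) ||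
    (List.range 24).any fun r =>
      (decide (rootA r = a) && decide (rootB r = b)) ||
        (decide (rootA r = b.swap) && decide (rootB r = a.swap))

theorem chkCover_all : (idxL.all fun a => idxL.all fun b => chkCover a b) = true := by decide

theorem cover_spec (a b : I8) (h1 : a ≠ b) (h2 : a ≠ b.swap) :
    ∃ r, r < 24 ∧ ((rootA r = a ∧ rootB r = b) ∨ (rootA r = b.swap ∧ rootB r = a.swap)) := by
  have h0 := chkCover_all
  rw [List.all_eq_true] at h0
  have h3 := h0 a (mem_idxL a)
  rw [List.all_eq_true] at h3
  have h4 := h3 b (mem_idxL b)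
  unfold chkCover at h4
  simp only [Bool.or_eq_true, decide_eq_true_eq, List.any_eq_true, List.mem_range,
    Bool.and_eq_true] at h4
  rcases h4 with (h | h) | h
  · exact absurd h h1
  · exact absurd h h2
  · exact h

/-- out of range, the table entry vanishes -/
theorem rootC_out (r : ℕ) (hr : ¬ r < 24) : rootC r = 0 := by
  unfold rootC
  rw [List.getD_eq_default]
  exact Nat.le_of_not_lt hr

theorem Ae_out (r : ℕ) (hr : ¬ r < 24) (i j : I8) : Ae r i j = 0 := by
  unfold Ae
  rw [rootC_out r hr]
  split_ifs <;> simp

end Cfsg.Agent.Lib.Helper5.D4O8
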