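import Cfsg.Agent.Lib.Helper5.D4O8.Trans
import Cfsg.Agent.Lib.Helper5.Orth.PlusSwap
import Cfsg.Agent.H9.OrthG

/-!
# `Ω⁺₈(F)` is generated by the root elements, over every field (helper5)

The isometries fixing the first three hyperbolic pairs are `Dg α` and `Sw * Dg α`; they normalise the
group `E8` of the root elements, and their commutators `Dg (α²)` lie in `E8`.  Hence the commutator
subgroup of the isometry group is `E8`.
-/

set_option autoImplicit false

namespace Cfsg.Agent.Lib.Helper5.D4O8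

open Matrix Cfsg.Agent.H9.Orth Cfsg.Agent.Lib.Helper5.OrthPar

variable (F : Type*) [Field F]

/-- the indices of the last hyperbolic pair -/
def b3 : I8 := Sum.inl 3

def b3' : I8 := Sum.inr 3

/-- the indices of the third hyperbolic pair -/
def c2 : I8 := Sum.inl 2

def c2' : I8 := Sum.inr 2

/-- the transposition of the last pair -/
def sw3 : I8 → I8 := fun k => if k = b3 then b3' else if k = b3' then b3 else k

theorem sw3_invol : Function.Involutive sw3 := by
  have : ∀ k : I8, sw3 (sw3 k) = k := by decide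
  exact this

theorem sw3_swap : ∀ k : I8, (sw3 k).swap = sw3 k.swap := by decide

theorem sw3_inj {a c : I8} (h : sw3 a = sw3 c) : a = c := sw3_invol.injective h

theorem eq_b3_of_pidx : ∀ k : I8, ¬ pidx k < 3 → k = b3 ∨ k = b3' := by decide

theorem third_index : ∀ a c : I8, ∃ k : I8, k ≠ a ∧ k ≠ a.swap ∧ k ≠ c ∧ k ≠ c.swap := by decide

/-! ### the permutation matrix `Sw` -/

/-- the isometry interchanging the vectors of the last pair -/
noncomputable def Sw : GL I8 F := permGL sw3 sw3_invol

theorem act_Sw (x : I8 → F) : act (Sw F) x = x ∘ sw3 := act_permGL sw3 sw3_invol x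

theorem Sw_mul_self : Sw F * Sw F = 1 := permGL_mul_self sw3 sw3_invol

theorem Sw_inv : (Sw F)⁻¹ = Sw F := permGL_inv sw3 sw3_invol

theorem Sw_mem : Sw F ∈ Cfsg.isometryGroup F (Q8 F) := by
  apply permGL_mem
  intro v
  unfold Q8 Cfsg.quadFormPlus
  rw [Fin.sum_univ_four, Fin.sum_univ_four]
  simp only [Function.comp_apply]
  have e0 : sw3 (Sum.inl 0) = Sum.inl 0 := by decide
  have e1 : sw3 (Sum.inl 1) = Sum.inl 1 := by decide
  have e2 : sw3 (Sum.inl 2) = Sum.inl 2 := by decide
  have e3 : sw3 (Sum.inl 3) = Sum.inr 3 := by decide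
  have f0 : sw3 (Sum.inr 0) = Sum.inr 0 := by decide
  have f1 : sw3 (Sum.inr 1) = Sum.inr 1 := by decide
  have f2 : sw3 (Sum.inr 2) = Sum.inr 2 := by decide
  have f3 : sw3 (Sum.inr 3) = Sum.inl 3 := by decide
  rw [e0, e1, e2, e3, f0, f1, f2, f3]
  ring

theorem eb_comp_sw3 (k : I8) : eb F k ∘ sw3 = eb F (sw3 k) := by
  funext l
  rw [Function.comp_apply, eb_apply, eb_apply]
  by_cases h : l = sw3 k
  · rw [if_pos h, if_pos (by rw [h, sw3_invol k])]
  · rw [if_neg h, if_neg]
    intro h'
    apply h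
    rw [← h', sw3_invol l]

theorem act_Sw_eb (k : I8) : act (Sw F) (eb F k) = eb F (sw3 k) := by
  rw [act_Sw, eb_comp_sw3]

/-! ### the diagonal matrices `Dg α` -/

/-- the diagonal entries -/
def dv (α : Fˣ) (k : I8) : F :=
  if k = b3 then (α : F) else if k = b3' then ((α⁻¹ : Fˣ) : F) else 1

theorem dv_b3 (α : Fˣ) : dv F α b3 = (α : F) := by
  unfold dv
  rw [if_pos rfl]

theorem dv_b3' (α : Fˣ) : dv F α b3' = ((α⁻¹ : Fˣ) : F) := by
  unfold dv
  rw [if_neg (by decide), if_pos rfl]

theorem dv_low (α : Fˣ) (k : I8) (hk : pidx k < 3) : dv F α k = 1 := by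
  unfold dv
  rw [if_neg, if_neg]
  · rintro rfl
    exact absurd hk (by decide)
  · rintro rfl
    exact absurd hk (by decide)

theorem dv_mul (α β : Fˣ) (k : I8) : dv F (α * β) k = dv F α k * dv F β k := by
  unfold dv
  split_ifs
  · rw [Units.val_mul]
  · rw [mul_inv, Units.val_mul]
  · rw [mul_one]

theorem dv_one (k : I8) : dv F 1 k = 1 := by
  unfold dv
  split_ifs <;> simp

theorem dv_sw3 (α : Fˣ) (k : I8) : dv F α (sw3 k) = dv F α⁻¹ k := by
  rcases eq_or_ne k b3 with rfl | h1
  · have : sw3 b3 = b3' := by decide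
    rw [this, dv_b3', dv_b3]
  · rcases eq_or_ne k b3' with rfl | h2
    · have : sw3 b3' = b3 := by decide
      rw [this, dv_b3, dv_b3', inv_inv]
    · have : sw3 k = k := by
        unfold sw3
        rw [if_neg h1, if_neg h2]
      rw [this]
      unfold dv
      rw [if_neg h1, if_neg h2, if_neg h1, if_neg h2]

theorem dv_pair (α : Fˣ) (i : Fin 4) : dv F α (Sum.inl i) * dv F α (Sum.inr i) = 1 := by
  by_cases hi : i = 3
  · subst hi
    have e1 : dv F α (Sum.inl 3) = (α : F) := dv_b3 F α
    have e2 : dv F α (Sum.inr 3) = ((α⁻¹ : Fˣ) : F) := dv_b3' F α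
    rw [e1, e2, ← Units.val_mul, mul_inv_cancel, Units.val_one]
  · have h1 : pidx (Sum.inl i) < 3 := by
      show i.val < 3
      have := i.2
      have : i.val ≠ 3 := fun h => hi (Fin.ext h)
      omega
    have h2 : pidx (Sum.inr i) < 3 := h1
    rw [dv_low F α _ h1, dv_low F α _ h2, mul_one]

/-- the diagonal isometry -/
def Dg (α : Fˣ) : GL I8 F :=
  ⟨Matrix.diagonal (dv F α), Matrix.diagonal (dv F α⁻¹), by
    rw [Matrix.diagonal_mul_diagonal, ← Matrix.diagonal_one]
    congr 1
    funext k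
    rw [← dv_mul, mul_inv_cancel, dv_one], by
    rw [Matrix.diagonal_mul_diagonal, ← Matrix.diagonal_one]
    congr 1
    funext k
    rw [← dv_mul, inv_mul_cancel, dv_one]⟩

theorem act_Dg (α : Fˣ) (x : I8 → F) : act (Dg F α) x = fun k => dv F α k * x k := by
  funext k
  show (Matrix.diagonal (dv F α) *ᵥ x) k = _
  rw [Matrix.mulVec_diagonal]

theorem act_Dg_eb (α : Fˣ) (k : I8) : act (Dg F α) (eb F k) = dv F α k • eb F k := by
  rw [act_Dg]
  funext l
  rw [Pi.smul_apply, smul_eq_mul, eb_apply]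
  by_cases h : l = k
  · rw [if_pos h, h]
  · rw [if_neg h, mul_zero, mul_zero]

theorem Dg_mul (α β : Fˣ) : Dg F α * Dg F β = Dg F (α * β) := by
  apply Units.ext
  show Matrix.diagonal (dv F α) * Matrix.diagonal (dv F β) = Matrix.diagonal (dv F (α * β))
  rw [Matrix.diagonal_mul_diagonal]
  congr 1
  funext k
  rw [dv_mul]

theorem Dg_one : Dg F 1 = 1 := by
  apply Units.ext
  show Matrix.diagonal (dv F 1) = 1
  rw [← Matrix.diagonal_one]
  congr 1
  funext k
  rw [dv_one]

theorem Dg_inv (α : Fˣ) : (Dg F α)⁻¹ = Dg F α⁻¹ := by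
  rw [inv_eq_iff_mul_eq_one, Dg_mul, mul_inv_cancel, Dg_one]

theorem Dg_mem (α : Fˣ) : Dg F α ∈ Cfsg.isometryGroup F (Q8 F) := by
  rw [mem_isometryGroup_iff]
  intro x
  rw [act_Dg]
  unfold Q8 Cfsg.quadFormPlus
  apply Finset.sum_congr rfl
  intro i _
  have := dv_pair F α i
  calc dv F α (Sum.inl i) * x (Sum.inl i) * (dv F α (Sum.inr i) * x (Sum.inr i))
      = (dv F α (Sum.inl i) * dv F α (Sum.inr i)) * (x (Sum.inl i) * x (Sum.inr i)) := by ring
    _ = x (Sum.inl i) * x (Sum.inr i) := by rw [this, one_mul]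

theorem Sw_Dg (α : Fˣ) : Sw F * Dg F α = Dg F α⁻¹ * Sw F := by
  apply gl_ext
  intro x
  rw [act_mul, act_mul, act_Sw, act_Dg, act_Dg, act_Sw]
  funext k
  show dv F α (sw3 k) * x (sw3 k) = dv F α⁻¹ k * x (sw3 k)
  rw [dv_sw3]

/-! ### the isometries fixing the first three pairs -/

theorem gl_ext_basis (g h : GL I8 F) (H : ∀ k, act g (eb F k) = act h (eb F k)) : g = h := by
  apply Units.ext
  ext i k
  have := congrFun (H k) i
  unfold eb at this
  rw [act, act, Matrix.mulVec_single_one, Matrix.mulVec_single_one] at this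
  exact this

theorem vec_last (v : I8 → F) (hs : ∀ k, pidx k < 3 → v k = 0) :
    v = v b3 • eb F b3 + v b3' • eb F b3' := by
  funext k
  rw [Pi.add_apply, Pi.smul_apply, Pi.smul_apply, smul_eq_mul, smul_eq_mul]
  by_cases hk : pidx k < 3
  · rw [hs k hk, eb_ne F b3 k, eb_ne F b3' k, mul_zero, mul_zero, add_zero]
    · rintro rfl
      exact absurd hk (by decide)
    · rintro rfl
      exact absurd hk (by decide)
  · rcases eq_b3_of_pidx k hk with rfl | rfl
    · rw [eb_same, eb_ne F b3' b3 (by decide), mul_one, mul_zero, add_zero]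
    · rw [eb_same, eb_ne F b3 b3' (by decide), mul_one, mul_zero, zero_add]

/-- the isometries fixing the first three pairs are monomial -/
theorem mem_T_cases (g : GL I8 F) (hg : g ∈ Cfsg.isometryGroup F (Q8 F))
    (hf : g ∈ fixLow F 3) : (∃ α : Fˣ, g = Dg F α) ∨ (∃ α : Fˣ, g = Sw F * Dg F α) := by
  obtain ⟨v, hvdef⟩ : ∃ v : I8 → F, v = act g (eb F b3) := ⟨_, rfl⟩
  obtain ⟨x, hxdef⟩ : ∃ x : I8 → F, x = act g (eb F b3') := ⟨_, rfl⟩
  have hvs : ∀ k, pidx k < 3 → v k = 0 := by
    intro k hk
    rw [hvdef, supp_act F 3 g hg hf _ k hk, eb_ne F b3 k]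
    rintro rfl
    exact absurd hk (by decide)
  have hxs : ∀ k, pidx k < 3 → x k = 0 := by
    intro k hk
    rw [hxdef, supp_act F 3 g hg hf _ k hk, eb_ne F b3' k]
    rintro rfl
    exact absurd hk (by decide)
  have hv := vec_last F v hvs
  have hx := vec_last F x hxs
  have hsw : b3.swap = b3' := rfl
  have hQv : v b3 * v b3' = 0 := by
    have h1 : Q8 F v = 0 := by rw [hvdef, Q_act g hg, Q_eb]
    rw [hv, ← hsw, Q_pair] at h1
    exact h1
  have hQx : x b3 * x b3' = 0 := by
    have h1 : Q8 F x = 0 := by rw [hxdef, Q_act g hg, Q_eb]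
    rw [hx, ← hsw, Q_pair] at h1
    exact h1
  have hpol : x b3 * v b3' + x b3' * v b3 = 1 := by
    have h1 : pol (Q8 F) v x = 1 := by
      rw [hvdef, hxdef, pol_act g hg, pol_eb_eb, if_pos (by decide)]
    rw [hx, pol_add_right (hQ8 F), pol_smul_right (hQ8 F), pol_smul_right (hQ8 F), pol_eb_right,
      pol_eb_right] at h1
    exact h1
  rcases mul_eq_zero.1 hQv with h0 | h0
  · -- `v b3 = 0`: type `Sw * Dg`
    right
    rw [h0, mul_zero, add_zero] at hpol
    have hne : v b3' ≠ 0 := by
      intro h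
      rw [h, mul_zero] at hpol
      exact zero_ne_one hpol
    have hx0 : x b3' = 0 := by
      rcases mul_eq_zero.1 hQx with h | h
      · rw [h, zero_mul] at hpol
        exact absurd hpol zero_ne_one
      · exact h
    refine ⟨Units.mk0 (v b3') hne, ?_⟩
    apply gl_ext_basis
    intro k
    rw [act_mul, act_Dg_eb, act_smul, act_Sw_eb]
    by_cases hk : pidx k < 3
    · rw [hf k hk, dv_low F _ k hk, one_smul]
      have : sw3 k = k := by
        unfold sw3
        rw [if_neg, if_neg]
        · rintro rfl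
          exact absurd hk (by decide)
        · rintro rfl
          exact absurd hk (by decide)
      rw [this]
    · rcases eq_b3_of_pidx k hk with rfl | rfl
      · have : sw3 b3 = b3' := by decide
        rw [this, dv_b3, Units.val_mk0, ← hvdef]
        nth_rewrite 1 [hv]
        rw [h0, zero_smul, zero_add]
      · have : sw3 b3' = b3 := by decide
        rw [this, dv_b3', ← hxdef]
        nth_rewrite 1 [hx]
        rw [hx0, zero_smul, add_zero]
        congr 1
        rw [Units.val_inv_eq_inv_val, Units.val_mk0]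
        exact eq_inv_of_mul_eq_one_left hpol
  · -- `v b3' = 0`: type `Dg`
    left
    rw [h0, mul_zero, zero_add] at hpol
    have hne : v b3 ≠ 0 := by
      intro h
      rw [h, mul_zero] at hpol
      exact zero_ne_one hpol
    have hx0 : x b3 = 0 := by
      rcases mul_eq_zero.1 hQx with h | h
      · exact h
      · rw [h, zero_mul] at hpol
        exact absurd hpol zero_ne_one
    refine ⟨Units.mk0 (v b3) hne, ?_⟩
    apply gl_ext_basis
    intro k
    rw [act_Dg_eb]
    by_cases hk : pidx k < 3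
    · rw [hf k hk, dv_low F _ k hk, one_smul]
    · rcases eq_b3_of_pidx k hk with rfl | rfl
      · rw [dv_b3, Units.val_mk0, ← hvdef]
        nth_rewrite 1 [hv]
        rw [h0, zero_smul, add_zero]
      · rw [dv_b3', ← hxdef]
        nth_rewrite 1 [hx]
        rw [hx0, zero_smul, zero_add]
        congr 1
        rw [Units.val_inv_eq_inv_val, Units.val_mk0]
        exact eq_inv_of_mul_eq_one_left hpol

end Cfsg.Agent.Lib.Helper5.D4O8
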