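import Cfsg.Agent.Lib.Helper5.D4O8.Tor

/-!
# `Ω⁺₈(F)` is generated by the root elements, over every field: conclusion (helper5)
-/

set_option autoImplicit false

namespace Cfsg.Agent.Lib.Helper5.D4O8

open Matrix Cfsg.Agent.H9.Orth Cfsg.Agent.Lib.Helper5.OrthPar
open scoped commutatorElement

variable (F : Type*) [Field F]

/-! ### squares of the torus lie in `E8` -/

/-- the diagonal entries of the torus element of the root `e_{b3} + e_{c2}` -/
def dA (γ : F) (k : I8) : F :=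
  if k = b3 ∨ k = c2 then γ else if k = b3' ∨ k = c2' then γ⁻¹ else 1

/-- the diagonal entries of the torus element of the root `e_{b3} - e_{c2}` -/
def dB (γ : F) (k : I8) : F :=
  if k = b3 ∨ k = c2' then γ else if k = b3' ∨ k = c2 then γ⁻¹ else 1

theorem hA_act (γ : F) (hγ : γ ≠ 0) (x : I8 → F) :
    act (rt F b3 c2 (γ - 1) * rt F c2' b3' 1 * rt F b3 c2 (γ⁻¹ - 1) * rt F c2' b3' (-γ)) x =
      fun k => dA F γ k * x k := by
  have h1 : c2 ≠ b3.swap := by decide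
  have h2 : b3' ≠ c2'.swap := by decide
  rw [act_mul, act_mul, act_mul, act_rt F b3 c2 h1, act_rt F c2' b3' h2, act_rt F b3 c2 h1,
    act_rt F c2' b3' h2]
  funext k
  rcases k with k | k <;> fin_cases k <;>
    simp [eb_apply, dA, b3, b3', c2, c2'] <;> field_simp <;> ring

theorem hB_act (γ : F) (hγ : γ ≠ 0) (x : I8 → F) :
    act (rt F b3 c2' (γ - 1) * rt F c2 b3' 1 * rt F b3 c2' (γ⁻¹ - 1) * rt F c2 b3' (-γ)) x =
      fun k => dB F γ k * x k := by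
  have h1 : c2' ≠ b3.swap := by decide
  have h2 : b3' ≠ c2.swap := by decide
  rw [act_mul, act_mul, act_mul, act_rt F b3 c2' h1, act_rt F c2 b3' h2, act_rt F b3 c2' h1,
    act_rt F c2 b3' h2]
  funext k
  rcases k with k | k <;> fin_cases k <;>
    simp [eb_apply, dB, b3, b3', c2, c2'] <;> field_simp <;> ring

theorem Dg_sq_mem (γ : Fˣ) : Dg F (γ * γ) ∈ E8 F := by
  have hγ : (γ : F) ≠ 0 := γ.ne_zero
  have e : Dg F (γ * γ) =
      (rt F b3 c2 ((γ : F) - 1) * rt F c2' b3' 1 * rt F b3 c2 ((γ : F)⁻¹ - 1) *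
        rt F c2' b3' (-(γ : F))) *
      (rt F b3 c2' ((γ : F) - 1) * rt F c2 b3' 1 * rt F b3 c2' ((γ : F)⁻¹ - 1) *
        rt F c2 b3' (-(γ : F))) := by
    apply gl_ext
    intro x
    rw [act_mul, hB_act F _ hγ, hA_act F _ hγ, act_Dg]
    funext k
    rcases k with k | k <;> fin_cases k <;>
      simp [dA, dB, dv, b3, b3', c2, c2'] <;> field_simp
  rw [e]
  have m1 : ∀ t : F, rt F b3 c2 t ∈ E8 F := rt_mem_E8 F b3 c2 (by decide) (by decide)
  have m2 : ∀ t : F, rt F c2' b3' t ∈ E8 F := rt_mem_E8 F c2' b3' (by decide) (by decide)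
  have m3 : ∀ t : F, rt F b3 c2' t ∈ E8 F := rt_mem_E8 F b3 c2' (by decide) (by decide)
  have m4 : ∀ t : F, rt F c2 b3' t ∈ E8 F := rt_mem_E8 F c2 b3' (by decide) (by decide)
  exact (E8 F).mul_mem
    ((E8 F).mul_mem ((E8 F).mul_mem ((E8 F).mul_mem (m1 _) (m2 _)) (m1 _)) (m2 _))
    ((E8 F).mul_mem ((E8 F).mul_mem ((E8 F).mul_mem (m3 _) (m4 _)) (m3 _)) (m4 _))

/-! ### the root elements are normalised -/

theorem root_ac (r : ℕ) (hr : r < 24) :
    (rootB r).swap ≠ rootA r ∧ (rootB r).swap ≠ (rootA r).swap := by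
  obtain ⟨h1, h2, -⟩ := root_spec r hr
  exact ⟨fun h => h2 h.symm, fun h => h1 (swap_inj h).symm⟩

theorem conj_X8_Dg (α : Fˣ) (r : ℕ) (hr : r < 24) (t : F) :
    Dg F α * X8 F r t * (Dg F α)⁻¹ ∈ E8 F := by
  obtain ⟨h1, h2⟩ := root_ac r hr
  rw [X8_eq_rt F r hr]
  unfold rt
  rw [conj_sg (hQ8 F) _ (Dg_mem F α), act_smul, act_Dg_eb, act_Dg_eb, sg_smul_left, smul_smul,
    smul_smul]
  exact rt_mem_E8 F _ _ h1 h2 _

theorem conj_X8_Sw (r : ℕ) (hr : r < 24) (t : F) :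
    Sw F * X8 F r t * (Sw F)⁻¹ ∈ E8 F := by
  obtain ⟨h1, h2⟩ := root_ac r hr
  rw [X8_eq_rt F r hr]
  unfold rt
  rw [conj_sg (hQ8 F) _ (Sw_mem F), act_smul, act_Sw_eb, act_Sw_eb]
  apply rt_mem_E8 F
  · exact fun h => h1 (sw3_inj h)
  · rw [sw3_swap]
    exact fun h => h2 (sw3_inj h)

theorem conj_E8_of_gens (g : GL I8 F) (h : ∀ r, r < 24 → ∀ t : F, g * X8 F r t * g⁻¹ ∈ E8 F) :
    ∀ n ∈ E8 F, g * n * g⁻¹ ∈ E8 F := by
  intro n hn
  unfold E8 at hn
  induction hn using Subgroup.closure_induction with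
  | mem x hx =>
    obtain ⟨r, hr, t, rfl⟩ := hx
    exact h r hr t
  | one =>
    rw [mul_one, mul_inv_cancel]
    exact (E8 F).one_mem
  | mul x y _ _ hx hy =>
    have : g * (x * y) * g⁻¹ = (g * x * g⁻¹) * (g * y * g⁻¹) := by group
    rw [this]
    exact (E8 F).mul_mem hx hy
  | inv x _ hx =>
    have : g * x⁻¹ * g⁻¹ = (g * x * g⁻¹)⁻¹ := by group
    rw [this]
    exact (E8 F).inv_mem hx

theorem conj_E8_Dg (α : Fˣ) : ∀ n ∈ E8 F, Dg F α * n * (Dg F α)⁻¹ ∈ E8 F :=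
  conj_E8_of_gens F _ (fun r hr t => conj_X8_Dg F α r hr t)

theorem conj_E8_Sw : ∀ n ∈ E8 F, Sw F * n * (Sw F)⁻¹ ∈ E8 F :=
  conj_E8_of_gens F _ (fun r hr t => conj_X8_Sw F r hr t)

/-- the isometries fixing the first three pairs -/
def T8 : Subgroup (GL I8 F) := Cfsg.isometryGroup F (Q8 F) ⊓ fixLow F 3

theorem conj_E8_T8 (g : GL I8 F) (hg : g ∈ T8 F) : ∀ n ∈ E8 F, g * n * g⁻¹ ∈ E8 F := by
  intro n hn
  rcases mem_T_cases F g hg.1 hg.2 with ⟨α, rfl⟩ | ⟨α, rfl⟩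
  · exact conj_E8_Dg F α n hn
  · have : Sw F * Dg F α * n * (Sw F * Dg F α)⁻¹ =
        Sw F * (Dg F α * n * (Dg F α)⁻¹) * (Sw F)⁻¹ := by group
    rw [this]
    exact conj_E8_Sw F _ (conj_E8_Dg F α n hn)

/-- the group of the root elements is normal in the isometry group -/
theorem conj_E8_O (g : GL I8 F) (hg : g ∈ Cfsg.isometryGroup F (Q8 F)) :
    ∀ n ∈ E8 F, g * n * g⁻¹ ∈ E8 F := by
  intro n hn
  obtain ⟨h, hh, hf⟩ := reduce_all F g hg
  have ht : h * g ∈ T8 F :=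
    ⟨(Cfsg.isometryGroup F (Q8 F)).mul_mem (E8_le F hh) hg, hf⟩
  have e : g * n * g⁻¹ = h⁻¹ * ((h * g) * n * (h * g)⁻¹) * h := by group
  rw [e]
  exact (E8 F).mul_mem ((E8 F).mul_mem ((E8 F).inv_mem hh) (conj_E8_T8 F _ ht n hn)) hh

/-! ### commutators of the isometries fixing the first three pairs -/

theorem comm_T8 (s t : GL I8 F) (hs : s ∈ T8 F) (ht : t ∈ T8 F) : ⁅s, t⁆ ∈ E8 F := by
  have hSw : (Sw F)⁻¹ = Sw F := Sw_inv F
  have key1 : ∀ α β : Fˣ, ⁅Dg F α, Sw F * Dg F β⁆ = Dg F (α * α) := by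
    intro α β
    rw [commutatorElement_def, _root_.mul_inv_rev, Dg_inv, Dg_inv, hSw]
    calc Dg F α * (Sw F * Dg F β) * Dg F α⁻¹ * (Dg F β⁻¹ * Sw F)
        = Dg F α * (Sw F * (Dg F β * Dg F α⁻¹ * Dg F β⁻¹)) * Sw F := by group
      _ = Dg F α * (Sw F * Dg F α⁻¹) * Sw F := by
          have e : β * α⁻¹ * β⁻¹ = α⁻¹ := by
            rw [mul_comm β, mul_assoc, mul_inv_cancel, mul_one]
          rw [Dg_mul, Dg_mul, e]
      _ = Dg F α * (Dg F α * Sw F) * Sw F := by rw [Sw_Dg, inv_inv]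
      _ = Dg F (α * α) := by
          rw [mul_assoc, mul_assoc, Sw_mul_self, mul_one, Dg_mul]
  rcases mem_T_cases F s hs.1 hs.2 with ⟨α, rfl⟩ | ⟨α, rfl⟩ <;>
    rcases mem_T_cases F t ht.1 ht.2 with ⟨β, rfl⟩ | ⟨β, rfl⟩
  · have : ⁅Dg F α, Dg F β⁆ = 1 := by
      rw [commutatorElement_eq_one_iff_commute]
      show Dg F α * Dg F β = Dg F β * Dg F α
      rw [Dg_mul, Dg_mul, mul_comm]
    rw [this]
    exact (E8 F).one_mem
  · rw [key1]
    exact Dg_sq_mem F α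
  · rw [← commutatorElement_inv, key1]
    exact (E8 F).inv_mem (Dg_sq_mem F β)
  · have : ⁅Sw F * Dg F α, Sw F * Dg F β⁆ = Dg F ((β * α⁻¹) * (β * α⁻¹)) := by
      rw [commutatorElement_def, _root_.mul_inv_rev, _root_.mul_inv_rev, Dg_inv, Dg_inv, hSw]
      calc Sw F * Dg F α * (Sw F * Dg F β) * (Dg F α⁻¹ * Sw F) * (Dg F β⁻¹ * Sw F)
          = (Sw F * Dg F α) * Sw F * (Dg F β * Dg F α⁻¹) * (Sw F * Dg F β⁻¹) * Sw F := by group
        _ = (Dg F α⁻¹ * Sw F) * Sw F * (Dg F β * Dg F α⁻¹) * (Dg F β * Sw F) * Sw F := by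
            rw [Sw_Dg, Sw_Dg, inv_inv]
        _ = Dg F α⁻¹ * (Sw F * Sw F) * (Dg F β * Dg F α⁻¹) * Dg F β * (Sw F * Sw F) := by group
        _ = Dg F ((β * α⁻¹) * (β * α⁻¹)) := by
            rw [Sw_mul_self, mul_one, mul_one, Dg_mul, Dg_mul, Dg_mul]
            congr 1
            ac_rfl
    rw [this]
    exact Dg_sq_mem F _

/-- commutators of isometries lie in the group of the root elements -/
theorem comm_mem_E8 : ∀ a ∈ Cfsg.isometryGroup F (Q8 F), ∀ b ∈ Cfsg.isometryGroup F (Q8 F),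
    ⁅a, b⁆ ∈ E8 F := by
  apply comm_mem_of_gens (E8 F) (Cfsg.isometryGroup F (Q8 F)) (conj_E8_O F)
    ((E8 F : Set (GL I8 F)) ∪ (T8 F : Set (GL I8 F)))
  · rintro g (hg | hg)
    · exact E8_le F hg
    · exact hg.1
  · intro g hg
    obtain ⟨h, hh, hf⟩ := reduce_all F g hg
    have ht : h * g ∈ T8 F :=
      ⟨(Cfsg.isometryGroup F (Q8 F)).mul_mem (E8_le F hh) hg, hf⟩
    have e : g = h⁻¹ * (h * g) := by group
    rw [e]
    exact Subgroup.mul_mem _
      (Subgroup.inv_mem _ (Subgroup.subset_closure (Or.inl hh)))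
      (Subgroup.subset_closure (Or.inr ht))
  · rintro s (hs | hs) t (ht | ht)
    · exact (E8 F).mul_mem ((E8 F).mul_mem ((E8 F).mul_mem hs ht) ((E8 F).inv_mem hs))
        ((E8 F).inv_mem ht)
    · have e : ⁅s, t⁆ = s * (t * s⁻¹ * t⁻¹) := by
        rw [commutatorElement_def]
        group
      rw [e]
      exact (E8 F).mul_mem hs (conj_E8_T8 F t ht _ ((E8 F).inv_mem hs))
    · have e : ⁅s, t⁆ = (s * t * s⁻¹) * t⁻¹ := by
        rw [commutatorElement_def]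
      rw [e]
      exact (E8 F).mul_mem (conj_E8_T8 F s hs _ ht) ((E8 F).inv_mem ht)
    · exact comm_T8 F s t hs ht

/-! ### the root elements are commutators -/

theorem X8_mem_comm (r : ℕ) (hr : r < 24) (t : F) :
    X8 F r t ∈ ⁅Cfsg.isometryGroup F (Q8 F), Cfsg.isometryGroup F (Q8 F)⁆ := by
  obtain ⟨h1, h2⟩ := root_ac r hr
  obtain ⟨k, hk1, hk2, hk3, hk4⟩ := third_index (rootA r) (rootB r).swap
  rw [X8_eq_rt F r hr]
  unfold rt
  have hw : Q8 F ((((rootC r : ℤ) : F) * t) • eb F (rootB r).swap) = 0 := by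
    rw [(hQ8 F).smul, Q_eb, mul_zero]
  rw [sg_eq_comm (hQ8 F) (eb F (rootA r)) _ (eb F k) (eb F k.swap) (Q_eb F _) hw (Q_eb F _)
    (Q_eb F _) (pol_rt F _ _ h2 _)
    (by
      rw [pol_eb_eb, if_neg]
      intro h
      exact hk2 (by rw [← h, swap_swap']))
    (by
      rw [pol_eb_eb, swap_swap', if_neg hk1])
    (by
      rw [pol_smul_left (hQ8 F), pol_eb_eb, if_neg, mul_zero]
      intro h
      exact hk4 (by rw [← h, swap_swap']))
    (by
      rw [pol_smul_left (hQ8 F), pol_eb_eb, swap_swap', if_neg hk3, mul_zero])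
    (by
      rw [pol_eb_eb, swap_swap', if_pos rfl])]
  exact Subgroup.commutator_mem_commutator (sg_mem (hQ8 F) _ _) (sg_mem (hQ8 F) _ _)

theorem comm_eq_E8 :
    ⁅Cfsg.isometryGroup F (Q8 F), Cfsg.isometryGroup F (Q8 F)⁆ = E8 F := by
  apply le_antisymm
  · rw [Subgroup.commutator_le]
    exact comm_mem_E8 F
  · unfold E8
    rw [Subgroup.closure_le]
    rintro g ⟨r, hr, t, rfl⟩
    exact X8_mem_comm F r hr t

/-- **`Ω⁺₈(F)` is the group generated by the root elements**, over every field -/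
theorem omega_eq :
    Cfsg.Omega F (Q8 F) = (E8 F).subgroupOf (Cfsg.isometryGroup F (Q8 F)) := by
  apply Subgroup.map_injective (Cfsg.isometryGroup F (Q8 F)).subtype_injective
  rw [Subgroup.subgroupOf_map_subtype, inf_eq_left.2 (E8_le F)]
  show (commutator ↥(Cfsg.isometryGroup F (Q8 F))).map _ = _
  rw [Subgroup.map_subtype_commutator, comm_eq_E8]

end Cfsg.Agent.Lib.Helper5.D4O8
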