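import Cfsg.Agent.Lib.Helper5.D4O8.Geo

/-!
# Reduction of an isometry of the hyperbolic form of dimension eight by root elements (helper5)

Every isometry of `Σ x_i y_i` (four pairs) is, modulo the group `E8` of the root elements, an isometry
fixing the first three hyperbolic pairs pointwise.  Valid over every field.
-/

set_option autoImplicit false

namespace Cfsg.Agent.Lib.Helper5.D4O8

open Matrix Cfsg.Agent.H9.Orth

variable (F : Type*) [Field F]

/-- the hyperbolic pair of an index -/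
def pidx : I8 → ℕ := Sum.elim (fun i => i.val) (fun i => i.val)

theorem pidx_swap (a : I8) : pidx a.swap = pidx a := by
  rcases a with a | a <;> rfl

theorem ne_of_pidx {a b : I8} (h : pidx a ≠ pidx b) : a ≠ b := fun e => h (by rw [e])

theorem ne_swap_of_pidx {a b : I8} (h : pidx a ≠ pidx b) : a ≠ b.swap := by
  intro e
  apply h
  rw [e, pidx_swap]

theorem eq_of_pidx (k : I8) (j : ℕ) (hj : j < 4) (h : pidx k = j) :
    k = Sum.inl ⟨j, hj⟩ ∨ k = Sum.inr ⟨j, hj⟩ := by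
  rcases k with k | k
  · left
    congr 1
    exact Fin.ext h
  · right
    congr 1
    exact Fin.ext h

/-- the matrices fixing the first `j` hyperbolic pairs pointwise -/
def fixLow (j : ℕ) : Subgroup (GL I8 F) where
  carrier := {g | ∀ k : I8, pidx k < j → act g (eb F k) = eb F k}
  mul_mem' := by
    intro a b ha hb k hk
    rw [act_mul, hb k hk, ha k hk]
  one_mem' := by
    intro k _
    exact act_one _
  inv_mem' := by
    intro a ha k hk
    have := ha k hk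
    calc act a⁻¹ (eb F k) = act a⁻¹ (act a (eb F k)) := by rw [this]
      _ = eb F k := act_inv_act a _

theorem mem_fixLow (j : ℕ) (g : GL I8 F) :
    g ∈ fixLow F j ↔ ∀ k : I8, pidx k < j → act g (eb F k) = eb F k := Iff.rfl

/-- an isometry fixing the first pairs preserves the low coordinates -/
theorem supp_act (j : ℕ) (g : GL I8 F) (hg : g ∈ Cfsg.isometryGroup F (Q8 F))
    (hf : g ∈ fixLow F j) (v : I8 → F) (k : I8) (hk : pidx k < j) : act g v k = v k := by
  have h1 : act g v k = pol (Q8 F) (act g v) (eb F k.swap) := by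
    rw [pol_eb_right, swap_swap']
  have h2 : act g (eb F k.swap) = eb F k.swap := hf k.swap (by rw [pidx_swap]; exact hk)
  rw [h1, ← h2, pol_act g hg, pol_eb_right, swap_swap']

/-- the root elements fixing the first pairs -/
def EL (j : ℕ) : Subgroup (GL I8 F) := E8 F ⊓ fixLow F j

theorem EL_le (j : ℕ) : EL F j ≤ Cfsg.isometryGroup F (Q8 F) :=
  fun _ hg => E8_le F hg.1

/-- a Siegel transformation in the high part fixes the low basis vectors -/
theorem sg_fixLow (j : ℕ) (a : I8) (w : I8 → F) (ha : j ≤ pidx a)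
    (hpw : pol (Q8 F) (eb F a) w = 0) (hw : ∀ k, pidx k < j → w k = 0) :
    sg (hQ8 F) (eb F a) w ∈ fixLow F j := by
  intro k hk
  have hk' : pidx k.swap < j := by rw [pidx_swap]; exact hk
  have hne : k.swap ≠ a := ne_of_pidx (by rw [pidx_swap]; omega)
  rw [act_sg (hQ8 F) _ _ (Q_eb F a) hpw, pol_eb_left, pol_eb_left, hw k.swap hk',
    eb_ne F a k.swap hne]
  module

theorem rt_mem_EL (j : ℕ) (a c : I8) (ha : j ≤ pidx a) (hc : j ≤ pidx c) (h1 : c ≠ a)
    (h2 : c ≠ a.swap) (t : F) : rt F a c t ∈ EL F j := by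
  refine ⟨rt_mem_E8 F a c h1 h2 t, ?_⟩
  apply sg_fixLow F j a _ ha (pol_rt F a c h2 t)
  intro k hk
  rw [Pi.smul_apply, eb_ne F c k (ne_of_pidx (by omega)), smul_zero]

/-- the key step: a singular vector with coordinate `1` at `a'` is moved to the basis vector -/
theorem sg_to_eb (a : I8) (x w : I8 → F) (hw : w = x - x a • eb F a - eb F a.swap)
    (hx : Q8 F x = 0) (h1 : x a.swap = 1) :
    pol (Q8 F) (eb F a) w = 0 ∧ act (sg (hQ8 F) (eb F a) w) x = eb F a.swap := by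
  have hpw : pol (Q8 F) (eb F a) w = 0 := by
    rw [pol_eb_left, hw]
    simp only [Pi.sub_apply, Pi.smul_apply, smul_eq_mul]
    rw [h1, eb_ne F a a.swap (swap_ne a), eb_same]
    ring
  refine ⟨hpw, ?_⟩
  have hxw : x - w = x a • eb F a + eb F a.swap := by
    rw [hw]
    abel
  have e1 : act (sg (hQ8 F) (eb F a) w) x =
      (x a + pol (Q8 F) x w - Q8 F w) • eb F a + (1 : F) • eb F a.swap := by
    rw [act_sg (hQ8 F) _ _ (Q_eb F a) hpw, pol_eb_right, h1]
    calc x + (pol (Q8 F) x w - Q8 F w * 1) • eb F a - (1 : F) • w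
        = (x - w) + (pol (Q8 F) x w - Q8 F w) • eb F a := by module
      _ = _ := by
        rw [hxw]
        module
  have e2 : Q8 F (act (sg (hQ8 F) (eb F a) w) x) = 0 := by
    rw [Q_act_sg (hQ8 F), hx]
  rw [e1, Q_pair, mul_one] at e2
  rw [e1, e2, zero_smul, zero_add, one_smul]

/-- step T1: coordinate `1` at `b` -/
theorem trans_T1 (j : ℕ) (b : I8) (hb : j ≤ pidx b) (v : I8 → F) (hv : Q8 F v = 0)
    (hsupp : ∀ k, pidx k < j → v k = 0) (hvb : v b = 1) :
    ∃ h ∈ EL F j, act h v = eb F b := by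
  obtain ⟨w, hw⟩ : ∃ w : I8 → F, w = v - v b.swap • eb F b.swap - eb F b.swap.swap := ⟨_, rfl⟩
  have h1 : v b.swap.swap = 1 := by rw [swap_swap']; exact hvb
  obtain ⟨hpw, hact⟩ := sg_to_eb F b.swap v w hw hv h1
  rw [swap_swap'] at hact
  refine ⟨sg (hQ8 F) (eb F b.swap) w, ⟨?_, ?_⟩, hact⟩
  · apply sg_eb_mem
    · rw [hw]
      simp only [Pi.sub_apply, Pi.smul_apply, smul_eq_mul]
      rw [eb_same, swap_swap', eb_ne F b b.swap (swap_ne b)]
      ring
    · rw [hw]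
      simp only [Pi.sub_apply, Pi.smul_apply, smul_eq_mul]
      rw [swap_swap', eb_same, hvb, eb_ne F b.swap b (fun h => swap_ne b h.symm)]
      ring
  · apply sg_fixLow F j b.swap w (by rw [pidx_swap]; exact hb) hpw
    intro k hk
    rw [hw]
    simp only [Pi.sub_apply, Pi.smul_apply, smul_eq_mul]
    rw [hsupp k hk, swap_swap', eb_ne F b.swap k (ne_swap_of_pidx (by omega)),
      eb_ne F b k (ne_of_pidx (by omega))]
    ring

/-- step T2: make the coordinate at `b` equal to `1` -/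
theorem trans_T2 (j : ℕ) (b k : I8) (hb : j ≤ pidx b) (hk : j ≤ pidx k) (hkb : k ≠ b)
    (hkb' : k ≠ b.swap) (v : I8 → F) (hvk : v k ≠ 0) :
    ∃ h ∈ EL F j, act h v b = 1 := by
  have h1 : k.swap ≠ b := by
    intro h
    apply hkb'
    rw [← h, swap_swap']
  have h2 : k.swap ≠ b.swap := fun h => hkb (swap_inj h)
  refine ⟨rt F b k.swap ((1 - v b) / v k),
    rt_mem_EL F j b k.swap hb (by rw [pidx_swap]; exact hk) h1 h2 _, ?_⟩
  rw [act_rt F b k.swap h2, swap_swap']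
  simp only [Pi.add_apply, Pi.sub_apply, Pi.smul_apply, smul_eq_mul]
  rw [eb_same, eb_ne F k.swap b (fun h => h1 h.symm)]
  field_simp
  ring

/-- step T3: make some coordinate outside the pair of `b` nonzero -/
theorem trans_T3 (j : ℕ) (b k₀ : I8) (hb : j ≤ pidx b) (hk₀ : j ≤ pidx k₀) (h1 : k₀ ≠ b)
    (h2 : k₀ ≠ b.swap) (v : I8 → F) (hv0 : v ≠ 0) (hsupp : ∀ k, pidx k < j → v k = 0) :
    ∃ h ∈ EL F j, ∃ k, j ≤ pidx k ∧ k ≠ b ∧ k ≠ b.swap ∧ act h v k ≠ 0 := by
  by_cases hex : ∃ k, k ≠ b ∧ k ≠ b.swap ∧ v k ≠ 0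
  · obtain ⟨k, hk1, hk2, hk3⟩ := hex
    refine ⟨1, (EL F j).one_mem, k, ?_, hk1, hk2, ?_⟩
    · by_contra hlt
      exact hk3 (hsupp k (by omega))
    · rw [act_one]
      exact hk3
  · push Not at hex
    have hk0 : v k₀ = 0 := hex k₀ h1 h2
    have hk0' : v k₀.swap = 0 := by
      apply hex
      · intro h
        apply h2
        rw [← h, swap_swap']
      · intro h
        exact h1 (swap_inj h)
    by_cases hvb : v b ≠ 0
    · -- `rt k₀ b' 1`
      have c1 : b.swap ≠ k₀ := fun h => h2 h.symm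
      have c2 : b.swap ≠ k₀.swap := fun h => h1 (swap_inj h).symm
      refine ⟨rt F k₀ b.swap 1, rt_mem_EL F j k₀ b.swap hk₀ (by rw [pidx_swap]; exact hb) c1 c2 1,
        k₀, hk₀, h1, h2, ?_⟩
      rw [act_rt F k₀ b.swap c2, swap_swap']
      simp only [Pi.add_apply, Pi.sub_apply, Pi.smul_apply, smul_eq_mul]
      rw [eb_same, hk0, hk0']
      simpa using hvb
    · push Not at hvb
      have hvb' : v b.swap ≠ 0 := by
        intro h0
        apply hv0
        funext k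
        by_cases e1 : k = b
        · rw [e1, hvb]; rfl
        · by_cases e2 : k = b.swap
          · rw [e2, h0]; rfl
          · exact hex k e1 e2
      have c1 : b ≠ k₀ := fun h => h1 h.symm
      have c2 : b ≠ k₀.swap := by
        intro h
        apply h2
        rw [h, swap_swap']
      refine ⟨rt F k₀ b 1, rt_mem_EL F j k₀ b hk₀ hb c1 c2 1, k₀, hk₀, h1, h2, ?_⟩
      rw [act_rt F k₀ b c2]
      simp only [Pi.add_apply, Pi.sub_apply, Pi.smul_apply, smul_eq_mul]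
      rw [eb_same, hk0, hk0']
      simpa using hvb'

/-- transitivity on the singular vectors of the high part -/
theorem trans_all (j : ℕ) (b k₀ : I8) (hb : j ≤ pidx b) (hk₀ : j ≤ pidx k₀) (h1 : k₀ ≠ b)
    (h2 : k₀ ≠ b.swap) (v : I8 → F) (hv : Q8 F v = 0) (hv0 : v ≠ 0)
    (hsupp : ∀ k, pidx k < j → v k = 0) :
    ∃ h ∈ EL F j, act h v = eb F b := by
  obtain ⟨h₃, hh₃, k, hk1, hk2, hk3, hk4⟩ := trans_T3 F j b k₀ hb hk₀ h1 h2 v hv0 hsupp
  obtain ⟨h₂, hh₂, hb1⟩ := trans_T2 F j b k hb hk1 hk2 hk3 (act h₃ v) hk4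
  have hmem : h₂ * h₃ ∈ EL F j := (EL F j).mul_mem hh₂ hh₃
  have hQ : Q8 F (act h₂ (act h₃ v)) = 0 := by
    rw [← act_mul, Q_act _ (EL_le F j hmem), hv]
  have hs : ∀ k, pidx k < j → act h₂ (act h₃ v) k = 0 := by
    intro k hk
    rw [← act_mul, supp_act F j _ (EL_le F j hmem) hmem.2 v k hk, hsupp k hk]
  obtain ⟨h₁, hh₁, hfin⟩ := trans_T1 F j b hb (act h₂ (act h₃ v)) hQ hs hb1
  refine ⟨h₁ * (h₂ * h₃), (EL F j).mul_mem hh₁ hmem, ?_⟩
  rw [act_mul, act_mul]
  exact hfin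

/-- one step of the reduction -/
theorem reduce_step (j : ℕ) (hj : j + 2 ≤ 4) (g : GL I8 F)
    (hg : g ∈ Cfsg.isometryGroup F (Q8 F)) (hf : g ∈ fixLow F j) :
    ∃ h ∈ E8 F, h * g ∈ fixLow F (j + 1) := by
  obtain ⟨b, hbdef⟩ : ∃ b : I8, b = Sum.inl ⟨j, by omega⟩ := ⟨_, rfl⟩
  obtain ⟨k₀, hkdef⟩ : ∃ k₀ : I8, k₀ = Sum.inl ⟨j + 1, by omega⟩ := ⟨_, rfl⟩
  have hb : pidx b = j := by rw [hbdef]; rfl
  have hk₀ : pidx k₀ = j + 1 := by rw [hkdef]; rfl
  have h1 : k₀ ≠ b := ne_of_pidx (by omega)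
  have h2 : k₀ ≠ b.swap := ne_swap_of_pidx (by omega)
  have hO := Cfsg.isometryGroup F (Q8 F)
  -- the first vector
  have hv : Q8 F (act g (eb F b)) = 0 := by rw [Q_act g hg, Q_eb]
  have hv0 : act g (eb F b) ≠ 0 := by
    rw [Ne, act_eq_zero_iff]
    intro h0
    have := congrFun h0 b
    rw [eb_same, Pi.zero_apply] at this
    exact one_ne_zero this
  have hsupp : ∀ k, pidx k < j → act g (eb F b) k = 0 := by
    intro k hk
    rw [supp_act F j g hg hf _ k hk, eb_ne F b k (ne_of_pidx (by omega))]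
  obtain ⟨h₁, hh₁, hact₁⟩ := trans_all F j b k₀ (by omega) (by omega) h1 h2 _ hv hv0 hsupp
  -- the second vector
  have hg₁ : h₁ * g ∈ Cfsg.isometryGroup F (Q8 F) :=
    (Cfsg.isometryGroup F (Q8 F)).mul_mem (EL_le F j hh₁) hg
  have hf₁ : h₁ * g ∈ fixLow F j := (fixLow F j).mul_mem hh₁.2 hf
  have hfb : act (h₁ * g) (eb F b) = eb F b := by rw [act_mul]; exact hact₁
  obtain ⟨x, hxdef⟩ : ∃ x : I8 → F, x = act (h₁ * g) (eb F b.swap) := ⟨_, rfl⟩
  have hxQ : Q8 F x = 0 := by rw [hxdef, Q_act _ hg₁, Q_eb]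
  have hx1 : x b.swap = 1 := by
    have e : x b.swap = pol (Q8 F) x (eb F b) := by rw [pol_eb_right]
    have e3 : pol (Q8 F) (act (h₁ * g) (eb F b.swap)) (act (h₁ * g) (eb F b)) = 1 := by
      rw [pol_act _ hg₁, pol_eb_eb, if_pos rfl]
    rw [hfb] at e3
    rw [e, hxdef]
    exact e3
  have hxs : ∀ k, pidx k < j → x k = 0 := by
    intro k hk
    rw [hxdef, supp_act F j _ hg₁ hf₁ _ k hk, eb_ne F b.swap k (ne_swap_of_pidx (by omega))]
  obtain ⟨w, hw⟩ : ∃ w : I8 → F, w = x - x b • eb F b - eb F b.swap := ⟨_, rfl⟩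
  obtain ⟨hpw, hact₂⟩ := sg_to_eb F b x w hw hxQ hx1
  have hwb : w b = 0 := by
    rw [hw]
    simp only [Pi.sub_apply, Pi.smul_apply, smul_eq_mul]
    rw [eb_same, eb_ne F b.swap b (fun h => swap_ne b h.symm)]
    ring
  have hwb' : w b.swap = 0 := by
    rw [hw]
    simp only [Pi.sub_apply, Pi.smul_apply, smul_eq_mul]
    rw [eb_same, hx1, eb_ne F b b.swap (swap_ne b)]
    ring
  have hh₂E : sg (hQ8 F) (eb F b) w ∈ E8 F := sg_eb_mem F b w hwb hwb'
  have hh₂f : sg (hQ8 F) (eb F b) w ∈ fixLow F j := by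
    apply sg_fixLow F j b w (by omega) hpw
    intro k hk
    rw [hw]
    simp only [Pi.sub_apply, Pi.smul_apply, smul_eq_mul]
    rw [hxs k hk, eb_ne F b k (ne_of_pidx (by omega)),
      eb_ne F b.swap k (ne_swap_of_pidx (by omega))]
    ring
  have hfix₂ : act (sg (hQ8 F) (eb F b) w) (eb F b) = eb F b := by
    rw [act_sg (hQ8 F) _ _ (Q_eb F b) hpw, hpw, pol_eb_eb, if_neg (swap_ne b)]
    module
  refine ⟨sg (hQ8 F) (eb F b) w * h₁, (E8 F).mul_mem hh₂E hh₁.1, ?_⟩
  intro k hk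
  rw [mul_assoc, act_mul]
  by_cases hkj : pidx k < j
  · rw [hf₁ k hkj, hh₂f k hkj]
  · have hkj' : pidx k = j := by omega
    rcases eq_of_pidx k j (by omega) hkj' with e | e
    · have : k = b := e.trans hbdef.symm
      rw [this, hfb, hfix₂]
    · have : k = b.swap := by
        subst hbdef
        exact e
      rw [this, ← hxdef, hact₂]

/-- every isometry is, modulo the root elements, an isometry fixing the first three pairs -/
theorem reduce_all (g : GL I8 F) (hg : g ∈ Cfsg.isometryGroup F (Q8 F)) :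
    ∃ h ∈ E8 F, h * g ∈ fixLow F 3 := by
  have hO := E8_le F
  have h0 : g ∈ fixLow F 0 := fun k hk => absurd hk (Nat.not_lt_zero _)
  obtain ⟨h₁, hh₁, hf₁⟩ := reduce_step F 0 (by omega) g hg h0
  have hg₁ := (Cfsg.isometryGroup F (Q8 F)).mul_mem (hO hh₁) hg
  obtain ⟨h₂, hh₂, hf₂⟩ := reduce_step F 1 (by omega) (h₁ * g) hg₁ hf₁
  have hg₂ := (Cfsg.isometryGroup F (Q8 F)).mul_mem (hO hh₂) hg₁
  obtain ⟨h₃, hh₃, hf₃⟩ := reduce_step F 2 (by omega) (h₂ * (h₁ * g)) hg₂ hf₂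
  refine ⟨h₃ * (h₂ * h₁), (E8 F).mul_mem hh₃ ((E8 F).mul_mem hh₂ hh₁), ?_⟩
  have e : h₃ * (h₂ * h₁) * g = h₃ * (h₂ * (h₁ * g)) := by group
  rw [e]
  exact hf₃

end Cfsg.Agent.Lib.Helper5.D4O8
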